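import Mathlib
import Cfsg.Agent.Lib.Helper2.RegUni2

set_option autoImplicit false

/-!
# The vectors `a_j = u^j e_m` and covectors `ψ_i = e_0 u^{-i}` for the upper Jordan block `u`
-/

namespace Cfsg.Agent.Lib.Helper5.RU

open Matrix Cfsg.Agent.H9SLRoot Cfsg.Agent.Lib.Helper2.RegUni

variable {F : Type*} [Field F] (m : ℕ)

/-- general formula for `Umat *ᵥ x` -/
theorem Umat_mulVec_apply (x : Fin (m + 1) → F) (i : Fin (m + 1)) :
    (Umat m *ᵥ x) i = x i + if h : i.val + 1 < m + 1 then x ⟨i.val + 1, h⟩ else 0 := by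
  rw [Matrix.mulVec, dotProduct]
  have h1 : ∀ j : Fin (m + 1), Umat (F := F) m i j * x j =
      (if i = j then x j else 0) + (if i.val + 1 = j.val then x j else 0) := by
    intro j
    rw [Umat_apply]
    by_cases h : i = j
    · rw [if_pos h, if_pos h, if_neg (by rw [h]; omega), one_mul, add_zero]
    · rw [if_neg h, if_neg h, zero_add]
      by_cases h2 : i.val + 1 = j.val
      · rw [if_pos h2, if_pos h2, one_mul]
      · rw [if_neg h2, if_neg h2, zero_mul]
  rw [Finset.sum_congr rfl (fun j _ => h1 j), Finset.sum_add_distrib, Finset.sum_ite_eq,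
    if_pos (Finset.mem_univ _)]
  congr 1
  by_cases h : i.val + 1 < m + 1
  · rw [dif_pos h, Finset.sum_eq_single (⟨i.val + 1, h⟩ : Fin (m + 1))]
    · rw [if_pos rfl]
    · intro j _ hj
      rw [if_neg]
      intro h'
      exact hj (Fin.ext h'.symm)
    · intro h0; exact absurd (Finset.mem_univ _) h0
  · rw [dif_neg h]
    apply Finset.sum_eq_zero
    intro j _
    rw [if_neg]
    have := j.isLt
    omega

/-- general formula for `x ᵥ* Umat` -/
theorem vecMul_Umat_apply (x : Fin (m + 1) → F) (j : Fin (m + 1)) :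
    (x ᵥ* Umat m) j = x j + if h : 1 ≤ j.val then x ⟨j.val - 1, by have := j.isLt; omega⟩ else 0 := by
  rw [Matrix.vecMul, dotProduct]
  have h1 : ∀ i : Fin (m + 1), x i * Umat (F := F) m i j =
      (if i = j then x i else 0) + (if i.val + 1 = j.val then x i else 0) := by
    intro i
    rw [Umat_apply]
    by_cases h : i = j
    · rw [if_pos h, if_pos h, if_neg (by rw [h]; omega), mul_one, add_zero]
    · rw [if_neg h, if_neg h, zero_add]
      by_cases h2 : i.val + 1 = j.val
      · rw [if_pos h2, if_pos h2, mul_one]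
      · rw [if_neg h2, if_neg h2, mul_zero]
  rw [Finset.sum_congr rfl (fun i _ => h1 i), Finset.sum_add_distrib, Finset.sum_ite_eq',
    if_pos (Finset.mem_univ _)]
  congr 1
  by_cases h : 1 ≤ j.val
  · rw [dif_pos h, Finset.sum_eq_single (⟨j.val - 1, by have := j.isLt; omega⟩ : Fin (m + 1))]
    · rw [if_pos]
      simp only
      omega
    · intro i _ hi
      rw [if_neg]
      intro h'
      apply hi
      apply Fin.ext
      simp only
      omega
    · intro h0; exact absurd (Finset.mem_univ _) h0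
  · rw [dif_neg h]
    apply Finset.sum_eq_zero
    intro i _
    rw [if_neg]
    omega

/-- centres `a_j = u^j e_m` -/
def av (j : ℕ) : Fin (m + 1) → F := fun i => (Nat.choose j (m - i.val) : F)

/-- axes `ψ_i = e_0 u^{-i}` -/
def pv (i : ℕ) : Fin (m + 1) → F :=
  fun k => (-1) ^ k.val * (Nat.choose (i + k.val - 1) k.val : F)

theorem av_apply (j : ℕ) (i : Fin (m + 1)) : av (F := F) m j i = (Nat.choose j (m - i.val) : F) := rfl

theorem pv_apply (i : ℕ) (k : Fin (m + 1)) :
    pv (F := F) m i k = (-1) ^ k.val * (Nat.choose (i + k.val - 1) k.val : F) := rfl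

theorem Umat_mulVec_av (j : ℕ) : Umat (F := F) m *ᵥ av m j = av m (j + 1) := by
  ext i
  rw [Umat_mulVec_apply, av_apply, av_apply]
  by_cases h : i.val + 1 < m + 1
  · rw [dif_pos h, av_apply]
    simp only
    have e1 : m - i.val = (m - (i.val + 1)) + 1 := by omega
    rw [e1, Nat.choose_succ_succ]
    push_cast
    ring
  · rw [dif_neg h, add_zero]
    have : m - i.val = 0 := by have := i.isLt; omega
    rw [this, Nat.choose_zero_right, Nat.choose_zero_right]

theorem pv_vecMul_Umat (i : ℕ) : pv (F := F) m (i + 1) ᵥ* Umat m = pv m i := by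
  ext k
  rw [vecMul_Umat_apply, pv_apply, pv_apply]
  by_cases h : 1 ≤ k.val
  · rw [dif_pos h, pv_apply]
    simp only
    obtain ⟨k', hk'⟩ : ∃ k', k.val = k' + 1 := ⟨k.val - 1, by omega⟩
    rw [hk']
    have e1 : i + 1 + (k' + 1) - 1 = (i + k') + 1 := by omega
    have e2 : i + 1 + (k' + 1 - 1) - 1 = i + k' := by omega
    have e3 : i + (k' + 1) - 1 = i + k' := by omega
    have e4 : k' + 1 - 1 = k' := by omega
    rw [e1, e2, e3, e4, Nat.choose_succ_succ, pow_succ]
    push_cast
    ring
  · rw [dif_neg h, add_zero]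
    have hk : k.val = 0 := by omega
    rw [hk]
    simp

theorem pv_zero : pv (F := F) m 0 = e (0 : Fin (m + 1)) := by
  ext k
  rw [pv_apply]
  unfold e
  rw [Pi.single_apply]
  by_cases h : k = 0
  · rw [if_pos h, h]
    simp
  · rw [if_neg h]
    have hk : 1 ≤ k.val := by
      rcases Nat.eq_zero_or_pos k.val with h0 | h0
      · exact absurd (Fin.ext h0) h
      · exact h0
    have : Nat.choose (0 + k.val - 1) k.val = 0 := Nat.choose_eq_zero_of_lt (by omega)
    rw [this]
    simp

theorem av_zero : av (F := F) m 0 = e (Fin.last m) := by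
  ext i
  rw [av_apply]
  unfold e
  rw [Pi.single_apply]
  by_cases h : i = Fin.last m
  · rw [if_pos h, h]
    simp
  · rw [if_neg h]
    have hi : i.val < m := by
      have := i.isLt
      rcases Nat.lt_or_ge i.val m with h1 | h1
      · exact h1
      · exfalso
        apply h
        apply Fin.ext
        simp only [Fin.val_last]
        omega
    have : Nat.choose 0 (m - i.val) = 0 := Nat.choose_eq_zero_of_lt (by omega)
    rw [this]
    simp

/-- shift invariance of the pairing -/
theorem dot_shift (i j : ℕ) :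
    pv (F := F) m (i + 1) ⬝ᵥ av m (j + 1) = pv m i ⬝ᵥ av m j := by
  rw [← Umat_mulVec_av, Matrix.dotProduct_mulVec, pv_vecMul_Umat]

theorem dot_zero_left (j : ℕ) : pv (F := F) m 0 ⬝ᵥ av m j = (Nat.choose j m : F) := by
  rw [pv_zero]
  unfold e
  rw [single_one_dotProduct, av_apply]
  simp

theorem dot_zero_right (i : ℕ) :
    pv (F := F) m i ⬝ᵥ av m 0 = (-1) ^ m * (Nat.choose (i + m - 1) m : F) := by
  rw [av_zero]
  unfold e
  rw [dotProduct_single_one, pv_apply]
  simp

theorem dot_le {i j : ℕ} (h : i ≤ j) :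
    pv (F := F) m i ⬝ᵥ av m j = (Nat.choose (j - i) m : F) := by
  induction i generalizing j with
  | zero => rw [dot_zero_left, Nat.sub_zero]
  | succ i ih =>
    obtain ⟨j', rfl⟩ : ∃ j', j = j' + 1 := ⟨j - 1, by omega⟩
    rw [dot_shift, ih (by omega)]
    congr 2
    omega

theorem dot_gt {i j : ℕ} (h : j < i) :
    pv (F := F) m i ⬝ᵥ av m j = (-1) ^ m * (Nat.choose (i - j + m - 1) m : F) := by
  induction j generalizing i with
  | zero => rw [dot_zero_right, Nat.sub_zero]
  | succ j ih =>
    obtain ⟨i', rfl⟩ : ∃ i', i = i' + 1 := ⟨i - 1, by omega⟩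
    rw [dot_shift, ih (by omega)]
    congr 3
    omega

/-- the vanishing range -/
theorem dot_eq_zero {i j : ℕ} (h1 : i ≤ j) (h2 : j < i + m) : pv (F := F) m i ⬝ᵥ av m j = 0 := by
  rw [dot_le m h1, Nat.choose_eq_zero_of_lt (by omega)]
  simp

theorem dot_eq_one (i : ℕ) : pv (F := F) m i ⬝ᵥ av m (i + m) = 1 := by
  rw [dot_le m (by omega)]
  have : i + m - i = m := by omega
  rw [this, Nat.choose_self]
  simp

theorem dot_succ (j : ℕ) : pv (F := F) m (j + 1) ⬝ᵥ av m j = (-1) ^ m := by
  rw [dot_gt m (by omega)]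
  have : j + 1 - j + m - 1 = m := by omega
  rw [this, Nat.choose_self]
  simp

end Cfsg.Agent.Lib.Helper5.RU
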