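import Mathlib

set_option autoImplicit false

/-!
# The "circle algebra" of `3 × 3` matrices used for the double commutator computation
-/

namespace Cfsg.Agent.Lib.Helper5.RU

open Matrix

variable {F : Type*} [Field F]

/-- the Gram matrix of `ψ_0, ψ_1, ψ_2` against `a_0, a_1, a_2` -/
def G3 (ε η : F) : Matrix (Fin 3) (Fin 3) F := !![0, 0, 0; ε, 0, 0; η, ε, 0]

/-- circle product -/
def circ (G M M' : Matrix (Fin 3) (Fin 3) F) : Matrix (Fin 3) (Fin 3) F := M + M' + M * G * M'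

def M0 (s : F) : Matrix (Fin 3) (Fin 3) F := !![s, 0, 0; 0, -s, 0; 0, 0, 0]
def M0i (ε s : F) : Matrix (Fin 3) (Fin 3) F := !![-s, 0, 0; -(s ^ 2 * ε), s, 0; 0, 0, 0]
def M1 (s : F) : Matrix (Fin 3) (Fin 3) F := !![0, 0, 0; 0, s, 0; 0, 0, -s]
def M1i (ε s : F) : Matrix (Fin 3) (Fin 3) F := !![0, 0, 0; 0, -s, 0; 0, -(s ^ 2 * ε), s]
def MX (ε η s : F) : Matrix (Fin 3) (Fin 3) F :=
  !![0, 0, 0; -(s ^ 2 * ε), 0, 0; s ^ 2 * η + s ^ 3, -(s ^ 2 * ε), 0]
def MXi (ε η s : F) : Matrix (Fin 3) (Fin 3) F :=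
  !![0, 0, 0; s ^ 2 * ε, 0, 0; -(s ^ 2 * η) - s ^ 3, s ^ 2 * ε, 0]

theorem circ_M0 (ε η s : F) :
    circ (G3 ε η) (Matrix.single 0 0 s) (Matrix.single 1 1 (-s)) = M0 s := by
  ext i j
  fin_cases i <;> fin_cases j <;>
    simp [circ, G3, M0, Matrix.mul_apply, Fin.sum_univ_three, Matrix.single_apply]

theorem circ_M0i (ε η s : F) :
    circ (G3 ε η) (Matrix.single 1 1 s) (Matrix.single 0 0 (-s)) = M0i ε s := by
  ext i j
  fin_cases i <;> fin_cases j <;>
    simp [circ, G3, M0i, Matrix.mul_apply, Fin.sum_univ_three, Matrix.single_apply] <;> ring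

theorem circ_M1 (ε η s : F) :
    circ (G3 ε η) (Matrix.single 1 1 s) (Matrix.single 2 2 (-s)) = M1 s := by
  ext i j
  fin_cases i <;> fin_cases j <;>
    simp [circ, G3, M1, Matrix.mul_apply, Fin.sum_univ_three, Matrix.single_apply]

theorem circ_M1i (ε η s : F) :
    circ (G3 ε η) (Matrix.single 2 2 s) (Matrix.single 1 1 (-s)) = M1i ε s := by
  ext i j
  fin_cases i <;> fin_cases j <;>
    simp [circ, G3, M1i, Matrix.mul_apply, Fin.sum_univ_three, Matrix.single_apply] <;> ring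

theorem circ_MX (ε η s : F) (hε : ε = 1 ∨ ε = -1) :
    circ (G3 ε η) (circ (G3 ε η) (circ (G3 ε η) (M0 s) (M1 s)) (M0i ε s)) (M1i ε s) = MX ε η s := by
  rcases hε with rfl | rfl <;>
  · ext i j
    fin_cases i <;> fin_cases j <;>
      simp [circ, G3, M0, M1, M0i, M1i, MX, Matrix.mul_apply, Fin.sum_univ_three] <;> ring

theorem circ_MXi (ε η s : F) (hε : ε = 1 ∨ ε = -1) :
    circ (G3 ε η) (circ (G3 ε η) (circ (G3 ε η) (M1 s) (M0 s)) (M1i ε s)) (M0i ε s) = MXi ε η s := by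
  rcases hε with rfl | rfl <;>
  · ext i j
    fin_cases i <;> fin_cases j <;>
      simp [circ, G3, M0, M1, M0i, M1i, MXi, Matrix.mul_apply, Fin.sum_univ_three] <;> ring

theorem circ_MY (ε η s : F) (hε : ε = 1 ∨ ε = -1) :
    circ (G3 ε η) (circ (G3 ε η) (circ (G3 ε η) (MX ε η s) (M0 s)) (MXi ε η s)) (M0i ε s) =
      Matrix.single 2 0 (-(s ^ 3)) := by
  rcases hε with rfl | rfl <;>
  · ext i j
    fin_cases i <;> fin_cases j <;>
      simp [circ, G3, M0, M0i, MX, MXi, Matrix.mul_apply, Fin.sum_univ_three,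
        Matrix.single_apply] <;> ring

end Cfsg.Agent.Lib.Helper5.RU
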