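import Mathlib
import Cfsg.Agent.Lib.Helper5.RU.A1
import Cfsg.Agent.Lib.Helper5.RU.B1

set_option autoImplicit false

/-!
# The double commutator `[[w₀, w₁], w₀]` is the transvection `tv a₂ ψ₀ (-s³)`
-/

namespace Cfsg.Agent.Lib.Helper5.RU

open Matrix Cfsg.Agent.H9SLRoot Cfsg.Agent.Lib.Helper2.RegUni

variable {F : Type*} [Field F] (m : ℕ)

/-- columns `a_0, a_1, a_2` -/
def Amat (F : Type*) [Field F] (m : ℕ) : Matrix (Fin (m + 1)) (Fin 3) F := Matrix.of fun i j => av m j.val i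

/-- rows `ψ_0, ψ_1, ψ_2` -/
def Pmat (F : Type*) [Field F] (m : ℕ) : Matrix (Fin 3) (Fin (m + 1)) F := Matrix.of fun i k => pv m i.val k

/-- `1 + A M Ψ` -/
def emb (M : Matrix (Fin 3) (Fin 3) F) : Matrix (Fin (m + 1)) (Fin (m + 1)) F :=
  1 + Amat F m * M * Pmat F m

theorem Pmat_mul_Amat_apply (i j : Fin 3) :
    (Pmat F m * Amat F m : Matrix (Fin 3) (Fin 3) F) i j =
      pv m i.val ⬝ᵥ av m j.val := rfl

theorem Pmat_mul_Amat (hm : 3 ≤ m) :
    Pmat F m * Amat F m = G3 ((-1) ^ m) ((-1) ^ m * ((m : F) + 1)) := by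
  ext i j
  rw [Pmat_mul_Amat_apply]
  fin_cases i <;> fin_cases j
  · simpa [G3] using dot_eq_zero (F := F) m (i := 0) (j := 0) (by omega) (by omega)
  · simpa [G3] using dot_eq_zero (F := F) m (i := 0) (j := 1) (by omega) (by omega)
  · simpa [G3] using dot_eq_zero (F := F) m (i := 0) (j := 2) (by omega) (by omega)
  · simpa [G3] using dot_succ (F := F) m 0
  · simpa [G3] using dot_eq_zero (F := F) m (i := 1) (j := 1) (by omega) (by omega)
  · simpa [G3] using dot_eq_zero (F := F) m (i := 1) (j := 2) (by omega) (by omega)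
  · have h := dot_gt (F := F) m (i := 2) (j := 0) (by omega)
    have e1 : 2 - 0 + m - 1 = m + 1 := by omega
    rw [e1, Nat.choose_succ_self_right] at h
    simpa [G3] using h
  · simpa [G3] using dot_succ (F := F) m 1
  · simpa [G3] using dot_eq_zero (F := F) m (i := 2) (j := 2) (by omega) (by omega)

theorem emb_mul (G M M' : Matrix (Fin 3) (Fin 3) F) (h : Pmat F m * Amat F m = G) :
    emb m M * emb m M' = emb m (circ G M M') := by
  have key : (Amat F m * M * Pmat F m) * (Amat F m * M' * Pmat F m) =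
      Amat F m * (M * (Pmat F m * Amat F m) * M') * Pmat F m := by
    simp only [Matrix.mul_assoc]
  rw [h] at key
  unfold emb circ
  rw [Matrix.mul_add, Matrix.add_mul, Matrix.add_mul, Matrix.one_mul, Matrix.mul_one,
    Matrix.one_mul, key]
  simp only [Matrix.mul_add, Matrix.add_mul]
  abel

theorem tv_coe_emb (i j : Fin 3) (c : F) (h : pv (F := F) m i.val ⬝ᵥ av m j.val = 0) :
    ((tv (av m j.val) (pv m i.val) c : SpecialLinearGroup (Fin (m + 1)) F) :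
      Matrix (Fin (m + 1)) (Fin (m + 1)) F) = emb m (Matrix.single j i c) := by
  rw [tv_coe h]
  unfold tmat emb
  congr 1
  ext a b
  rw [Matrix.smul_apply, Matrix.vecMulVec_apply, Matrix.mul_apply]
  simp only [Matrix.mul_apply, Matrix.single_apply, Amat, Pmat, Matrix.of_apply]
  fin_cases i <;> fin_cases j <;> simp [Fin.sum_univ_three] <;> ring

/-- the transvections `tv a_j ψ_i c` -/
noncomputable def Tm (j i : ℕ) (c : F) : SpecialLinearGroup (Fin (m + 1)) F :=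
  tv (av m j) (pv m i) c

theorem pv_vecMul_uSL_inv (i : ℕ) :
    pv (F := F) m i ᵥ* ((uSL m : SpecialLinearGroup (Fin (m + 1)) F)⁻¹ :
      SpecialLinearGroup (Fin (m + 1)) F).val = pv m (i + 1) := by
  have := vecMul_vecMul_inv (uSL (F := F) m) (pv m (i + 1))
  rw [uSL_coe, pv_vecMul_Umat] at this
  exact this

theorem uSL_conj_Tm (j i : ℕ) (c : F) :
    uSL m * Tm m j i c * (uSL m)⁻¹ = Tm m (j + 1) (i + 1) c := by
  unfold Tm
  rw [tv_conj, uSL_coe, Umat_mulVec_av]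
  congr 1
  exact pv_vecMul_uSL_inv m i

theorem Tm_inv (j i : ℕ) (c : F) : (Tm m j i c)⁻¹ = Tm m j i (-c) := tv_inv _ _ _

theorem Tm_mul (j i : ℕ) (c d : F) : Tm m j i c * Tm m j i d = Tm m j i (c + d) := tv_mul _ _ _ _

theorem Tm_zero (j i : ℕ) : Tm (F := F) m j i 0 = 1 := tv_zero _ _

theorem neg_one_pow_cases : ((-1 : F) ^ m = 1) ∨ ((-1 : F) ^ m = -1) := neg_one_pow_eq_or F m

theorem Tm_coe_emb (i j : Fin 3) (c : F) (h : pv (F := F) m i.val ⬝ᵥ av m j.val = 0) :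
    ((Tm m j.val i.val c : SpecialLinearGroup (Fin (m + 1)) F) :
      Matrix (Fin (m + 1)) (Fin (m + 1)) F) = emb m (Matrix.single j i c) :=
  tv_coe_emb m i j c h

theorem dot00 (hm : 3 ≤ m) : pv (F := F) m 0 ⬝ᵥ av m 0 = 0 := dot_eq_zero m (by omega) (by omega)
theorem dot11 (hm : 3 ≤ m) : pv (F := F) m 1 ⬝ᵥ av m 1 = 0 := dot_eq_zero m (by omega) (by omega)
theorem dot22 (hm : 3 ≤ m) : pv (F := F) m 2 ⬝ᵥ av m 2 = 0 := dot_eq_zero m (by omega) (by omega)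
theorem dot02 (hm : 3 ≤ m) : pv (F := F) m 0 ⬝ᵥ av m 2 = 0 := dot_eq_zero m (by omega) (by omega)

theorem Tm00_coe (hm : 3 ≤ m) (c : F) :
    ((Tm m 0 0 c : SpecialLinearGroup (Fin (m + 1)) F) : Matrix (Fin (m + 1)) (Fin (m + 1)) F) =
      emb m (Matrix.single 0 0 c) := Tm_coe_emb m 0 0 c (dot00 m hm)

theorem Tm11_coe (hm : 3 ≤ m) (c : F) :
    ((Tm m 1 1 c : SpecialLinearGroup (Fin (m + 1)) F) : Matrix (Fin (m + 1)) (Fin (m + 1)) F) =
      emb m (Matrix.single 1 1 c) := Tm_coe_emb m 1 1 c (dot11 m hm)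

theorem Tm22_coe (hm : 3 ≤ m) (c : F) :
    ((Tm m 2 2 c : SpecialLinearGroup (Fin (m + 1)) F) : Matrix (Fin (m + 1)) (Fin (m + 1)) F) =
      emb m (Matrix.single 2 2 c) := Tm_coe_emb m 2 2 c (dot22 m hm)

theorem Tm20_coe (hm : 3 ≤ m) (c : F) :
    ((Tm m 2 0 c : SpecialLinearGroup (Fin (m + 1)) F) : Matrix (Fin (m + 1)) (Fin (m + 1)) F) =
      emb m (Matrix.single 2 0 c) := Tm_coe_emb m 0 2 c (dot02 m hm)

theorem coe_w0 (hm : 3 ≤ m) (s : F) :
    ((Tm m 0 0 s * Tm m 1 1 (-s) : SpecialLinearGroup (Fin (m + 1)) F) : Matrix (Fin (m + 1)) (Fin (m + 1)) F) =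
      emb m (M0 s) := by
  rw [Matrix.SpecialLinearGroup.coe_mul, Tm00_coe m hm, Tm11_coe m hm,
    emb_mul m _ _ _ (Pmat_mul_Amat m hm), circ_M0]

theorem coe_w0i (hm : 3 ≤ m) (s : F) :
    ((Tm m 1 1 s * Tm m 0 0 (-s) : SpecialLinearGroup (Fin (m + 1)) F) : Matrix (Fin (m + 1)) (Fin (m + 1)) F) =
      emb m (M0i ((-1) ^ m) s) := by
  rw [Matrix.SpecialLinearGroup.coe_mul, Tm00_coe m hm, Tm11_coe m hm,
    emb_mul m _ _ _ (Pmat_mul_Amat m hm), circ_M0i]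

theorem coe_w1 (hm : 3 ≤ m) (s : F) :
    ((Tm m 1 1 s * Tm m 2 2 (-s) : SpecialLinearGroup (Fin (m + 1)) F) : Matrix (Fin (m + 1)) (Fin (m + 1)) F) =
      emb m (M1 s) := by
  rw [Matrix.SpecialLinearGroup.coe_mul, Tm22_coe m hm, Tm11_coe m hm,
    emb_mul m _ _ _ (Pmat_mul_Amat m hm), circ_M1]

theorem coe_w1i (hm : 3 ≤ m) (s : F) :
    ((Tm m 2 2 s * Tm m 1 1 (-s) : SpecialLinearGroup (Fin (m + 1)) F) : Matrix (Fin (m + 1)) (Fin (m + 1)) F) =
      emb m (M1i ((-1) ^ m) s) := by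
  rw [Matrix.SpecialLinearGroup.coe_mul, Tm22_coe m hm, Tm11_coe m hm,
    emb_mul m _ _ _ (Pmat_mul_Amat m hm), circ_M1i]

/-- the double commutator identity -/
theorem W_eq (hm : 3 ≤ m) (s : F) :
    let w0 : SpecialLinearGroup (Fin (m + 1)) F := Tm m 0 0 s * Tm m 1 1 (-s)
    let w0i : SpecialLinearGroup (Fin (m + 1)) F := Tm m 1 1 s * Tm m 0 0 (-s)
    let w1 : SpecialLinearGroup (Fin (m + 1)) F := Tm m 1 1 s * Tm m 2 2 (-s)
    let w1i : SpecialLinearGroup (Fin (m + 1)) F := Tm m 2 2 s * Tm m 1 1 (-s)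
    (w0 * w1 * w0i * w1i) * w0 * (w1 * w0 * w1i * w0i) * w0i = Tm m 2 0 (-(s ^ 3)) := by
  intro w0 w0i w1 w1i
  have hG := Pmat_mul_Amat (F := F) m hm
  have hε := neg_one_pow_cases (F := F) m
  apply Subtype.ext
  rw [Tm20_coe m hm]
  simp only [Matrix.SpecialLinearGroup.coe_mul]
  have c0 : (w0 : Matrix (Fin (m + 1)) (Fin (m + 1)) F) = emb m (M0 s) := coe_w0 m hm s
  have c0i : (w0i : Matrix (Fin (m + 1)) (Fin (m + 1)) F) = emb m (M0i ((-1) ^ m) s) := coe_w0i m hm s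
  have c1 : (w1 : Matrix (Fin (m + 1)) (Fin (m + 1)) F) = emb m (M1 s) := coe_w1 m hm s
  have c1i : (w1i : Matrix (Fin (m + 1)) (Fin (m + 1)) F) = emb m (M1i ((-1) ^ m) s) := coe_w1i m hm s
  have hX : (w0 : Matrix (Fin (m + 1)) (Fin (m + 1)) F) * w1 * w0i * w1i =
      emb m (MX ((-1) ^ m) ((-1) ^ m * ((m : F) + 1)) s) := by
    rw [c0, c0i, c1, c1i, emb_mul m _ _ _ hG, emb_mul m _ _ _ hG, emb_mul m _ _ _ hG,
      circ_MX _ _ _ hε]
  have hXi : (w1 : Matrix (Fin (m + 1)) (Fin (m + 1)) F) * w0 * w1i * w0i =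
      emb m (MXi ((-1) ^ m) ((-1) ^ m * ((m : F) + 1)) s) := by
    rw [c0, c0i, c1, c1i, emb_mul m _ _ _ hG, emb_mul m _ _ _ hG, emb_mul m _ _ _ hG,
      circ_MXi _ _ _ hε]
  rw [hX, hXi, c0, c0i, emb_mul m _ _ _ hG, emb_mul m _ _ _ hG, emb_mul m _ _ _ hG,
    circ_MY _ _ _ hε]

end Cfsg.Agent.Lib.Helper5.RU
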