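import Mathlib
import Cfsg.Agent.Lib.Helper5.RU.B2
import Cfsg.Agent.Lib.Helper2.RegUni1

set_option autoImplicit false

/-!
# The additive groups `L_d` and the relations between them
-/

namespace Cfsg.Agent.Lib.Helper5.RU

open Matrix Cfsg.Agent.H9SLRoot Cfsg.Agent.Lib.Helper2.RegUni

variable {F : Type*} [Field F] (m : ℕ)

/-- the second generator `v = t u t⁻¹`, `t = tv a_0 ψ_0 s` -/
noncomputable def vconj (s : F) : SpecialLinearGroup (Fin (m + 1)) F :=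
  Tm m 0 0 s * uSL m * (Tm m 0 0 s)⁻¹

variable (H : Subgroup (SpecialLinearGroup (Fin (m + 1)) F))

/-- `L_d = {c | tv a_d ψ_0 c ∈ H}` -/
def Ld (d : ℕ) : AddSubgroup F where
  carrier := {c | Tm m d 0 c ∈ H}
  zero_mem' := by
    show Tm m d 0 0 ∈ H
    rw [Tm_zero]
    exact H.one_mem
  add_mem' := by
    intro a b ha hb
    show Tm m d 0 (a + b) ∈ H
    rw [← Tm_mul]
    exact H.mul_mem ha hb
  neg_mem' := by
    intro a ha
    show Tm m d 0 (-a) ∈ H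
    rw [← Tm_inv]
    exact H.inv_mem ha

theorem mem_Ld {d : ℕ} {c : F} : c ∈ Ld m H d ↔ Tm m d 0 c ∈ H := Iff.rfl

theorem eps_mul_mem {A : AddSubgroup F} {x : F} : (-1) ^ m * x ∈ A ↔ x ∈ A := by
  rcases neg_one_pow_cases (F := F) m with h | h
  · rw [h, one_mul]
  · rw [h, neg_one_mul, neg_mem_iff]

variable {m H}

theorem Tm_shift_one (hu : uSL m ∈ H) (j i : ℕ) (c : F) :
    Tm m (j + 1) (i + 1) c ∈ H ↔ Tm m j i c ∈ H := by
  constructor
  · intro h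
    have e : Tm m j i c = (uSL m)⁻¹ * Tm m (j + 1) (i + 1) c * uSL m := by
      rw [← uSL_conj_Tm]; group
    rw [e]
    exact H.mul_mem (H.mul_mem (H.inv_mem hu) h) hu
  · intro h
    rw [← uSL_conj_Tm]
    exact H.mul_mem (H.mul_mem hu h) (H.inv_mem hu)

theorem Tm_shift (hu : uSL m ∈ H) (j i k : ℕ) (c : F) :
    Tm m (j + k) (i + k) c ∈ H ↔ Tm m j i c ∈ H := by
  induction k with
  | zero => rfl
  | succ k ih =>
    rw [← ih]
    exact Tm_shift_one hu (j + k) (i + k) c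

theorem W_mem (hm : 3 ≤ m) (s : F) (hu : uSL m ∈ H) (hv : vconj m s ∈ H) :
    s ^ 3 ∈ Ld m H 2 := by
  have e0 : Tm m 0 0 s * Tm m 1 1 (-s) = vconj m s * (uSL m)⁻¹ := by
    unfold vconj
    rw [← uSL_conj_Tm m 0 0 (-s), ← Tm_inv]; group
  have h0 : Tm m 0 0 s * Tm m 1 1 (-s) ∈ H := by
    rw [e0]; exact H.mul_mem hv (H.inv_mem hu)
  have e1 : Tm m 1 1 s * Tm m 2 2 (-s) = uSL m * (Tm m 0 0 s * Tm m 1 1 (-s)) * (uSL m)⁻¹ := by
    rw [← uSL_conj_Tm m 0 0 s, ← uSL_conj_Tm m 1 1 (-s)]; group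
  have h1 : Tm m 1 1 s * Tm m 2 2 (-s) ∈ H := by
    rw [e1]; exact H.mul_mem (H.mul_mem hu h0) (H.inv_mem hu)
  have e0i : Tm m 1 1 s * Tm m 0 0 (-s) = (Tm m 0 0 s * Tm m 1 1 (-s))⁻¹ := by
    rw [_root_.mul_inv_rev, Tm_inv, Tm_inv, neg_neg]
  have h0i : Tm m 1 1 s * Tm m 0 0 (-s) ∈ H := by
    rw [e0i]; exact H.inv_mem h0
  have e1i : Tm m 2 2 s * Tm m 1 1 (-s) = (Tm m 1 1 s * Tm m 2 2 (-s))⁻¹ := by
    rw [_root_.mul_inv_rev, Tm_inv, Tm_inv, neg_neg]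
  have h1i : Tm m 2 2 s * Tm m 1 1 (-s) ∈ H := by
    rw [e1i]; exact H.inv_mem h1
  have key := W_eq m hm s
  simp only at key
  have : Tm m 2 0 (-(s ^ 3)) ∈ H := by
    rw [← key]
    have hX := H.mul_mem (H.mul_mem (H.mul_mem h0 h1) h0i) h1i
    have hXi := H.mul_mem (H.mul_mem (H.mul_mem h1 h0) h1i) h0i
    exact H.mul_mem (H.mul_mem (H.mul_mem hX h0) hXi) h0i
  have h2 : -(s ^ 3) ∈ Ld m H 2 := this
  exact neg_mem_iff.mp h2

/-! ### the action of `v` -/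

theorem dot00' (hm : 1 ≤ m) : pv (F := F) m 0 ⬝ᵥ av m 0 = 0 := dot_eq_zero m (by omega) (by omega)

theorem vconj_mulVec (hm : 2 ≤ m) (s : F) (x : Fin (m + 1) → F) :
    ((vconj m s : SpecialLinearGroup (Fin (m + 1)) F) : Matrix (Fin (m + 1)) (Fin (m + 1)) F) *ᵥ x =
      Umat m *ᵥ x + (-(s * (pv m 0 ⬝ᵥ x))) • av m 1 + (s * (pv m 0 ⬝ᵥ (Umat m *ᵥ x))) • av m 0 := by
  have h00 := dot00' (F := F) (m := m) (by omega)
  have h01 : pv (F := F) m 0 ⬝ᵥ av m 1 = 0 := dot_eq_zero m (by omega) (by omega)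
  have e1 : ((Tm m 0 0 (-s) : SpecialLinearGroup (Fin (m + 1)) F) :
      Matrix (Fin (m + 1)) (Fin (m + 1)) F) *ᵥ x = x + (-s * (pv m 0 ⬝ᵥ x)) • av m 0 :=
    tv_mulVec h00 _ _
  have e2 : Umat (F := F) m *ᵥ (x + (-s * (pv m 0 ⬝ᵥ x)) • av m 0) =
      Umat m *ᵥ x + (-(s * (pv m 0 ⬝ᵥ x))) • av m 1 := by
    rw [Matrix.mulVec_add, Matrix.mulVec_smul, Umat_mulVec_av, neg_mul]
  have e3 : ∀ z : Fin (m + 1) → F, ((Tm m 0 0 s : SpecialLinearGroup (Fin (m + 1)) F) :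
      Matrix (Fin (m + 1)) (Fin (m + 1)) F) *ᵥ z = z + (s * (pv m 0 ⬝ᵥ z)) • av m 0 :=
    fun z => tv_mulVec h00 _ _
  unfold vconj
  rw [coe_mul_mulVec, coe_mul_mulVec, Tm_inv, e1, uSL_coe, e2, e3, dotProduct_add,
    dotProduct_smul, h01, smul_zero, add_zero]

theorem vconj_mulVec_av_lt (hm : 2 ≤ m) (s : F) (j : ℕ) (hj : j + 2 ≤ m) :
    ((vconj m s : SpecialLinearGroup (Fin (m + 1)) F) : Matrix (Fin (m + 1)) (Fin (m + 1)) F) *ᵥ
      av m j = av m (j + 1) := by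
  have h0j : pv (F := F) m 0 ⬝ᵥ av m j = 0 := dot_eq_zero m (by omega) (by omega)
  have h0j1 : pv (F := F) m 0 ⬝ᵥ av m (j + 1) = 0 := dot_eq_zero m (by omega) (by omega)
  rw [vconj_mulVec hm, Umat_mulVec_av, h0j, h0j1, mul_zero, neg_zero, zero_smul,
    zero_smul, add_zero, add_zero]

theorem vconj_mulVec_av_last (hm : 2 ≤ m) (s : F) :
    ((vconj m s : SpecialLinearGroup (Fin (m + 1)) F) : Matrix (Fin (m + 1)) (Fin (m + 1)) F) *ᵥ
      av m (m - 1) = av m m + s • av m 0 := by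
  have h0j : pv (F := F) m 0 ⬝ᵥ av m (m - 1) = 0 := dot_eq_zero m (by omega) (by omega)
  have e : m - 1 + 1 = m := by omega
  have h0j1 : pv (F := F) m 0 ⬝ᵥ av m (m - 1 + 1) = 1 := by
    have := dot_eq_one (F := F) m 0
    rw [zero_add] at this
    rw [e]; exact this
  rw [vconj_mulVec hm, Umat_mulVec_av, h0j, h0j1, mul_zero, neg_zero, zero_smul, add_zero,
    mul_one, e]

theorem vconj_inv (s : F) : (vconj m s)⁻¹ = Tm m 0 0 s * (uSL m)⁻¹ * (Tm m 0 0 s)⁻¹ := by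
  unfold vconj; group

theorem pv_zero_vecMul_vconj_inv (hm : 2 ≤ m) (s : F) :
    pv (F := F) m 0 ᵥ* (((vconj m s)⁻¹ : SpecialLinearGroup (Fin (m + 1)) F) :
      Matrix (Fin (m + 1)) (Fin (m + 1)) F) = pv m 1 + (-((-1) ^ m * s)) • pv m 0 := by
  have h00 := dot00' (F := F) (m := m) (by omega)
  have h10 : pv (F := F) m 1 ⬝ᵥ av m 0 = (-1) ^ m := dot_succ m 0
  have e3 : ∀ (c : F) (z : Fin (m + 1) → F), z ᵥ* ((Tm m 0 0 c : SpecialLinearGroup (Fin (m + 1)) F) :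
      Matrix (Fin (m + 1)) (Fin (m + 1)) F) = z + (c * (z ⬝ᵥ av m 0)) • pv m 0 :=
    fun c z => tv_vecMul h00 _ _
  rw [vconj_inv, coe_mul_vecMul, coe_mul_vecMul, Tm_inv, e3 s, h00, mul_zero, zero_smul, add_zero,
    pv_vecMul_uSL_inv, e3 (-s), h10]
  congr 2
  ring

/-- the axis `ψ_1 - ε s ψ_0` -/
def axv (s : F) : Fin (m + 1) → F := pv m 1 + (-((-1) ^ m * s)) • pv m 0

theorem axv_dot (s : F) (x : Fin (m + 1) → F) :
    axv (m := m) s ⬝ᵥ x = pv m 1 ⬝ᵥ x + (-((-1) ^ m * s)) * (pv m 0 ⬝ᵥ x) := by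
  unfold axv
  rw [add_dotProduct, smul_dotProduct, smul_eq_mul]

theorem vconj_conj_Tm_lt (hm : 2 ≤ m) (s : F) (j : ℕ) (hj : j + 2 ≤ m) (c : F) :
    vconj m s * Tm m j 0 c * (vconj m s)⁻¹ = tv (av m (j + 1)) (axv (m := m) s) c := by
  unfold Tm
  rw [tv_conj, vconj_mulVec_av_lt hm s j hj, pv_zero_vecMul_vconj_inv hm s]
  rfl

theorem vconj_conj_Tm_last (hm : 2 ≤ m) (s : F) (c : F) :
    vconj m s * Tm m (m - 1) 0 c * (vconj m s)⁻¹ =
      tv (av m m + s • av m 0) (axv (m := m) s) c := by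
  unfold Tm
  rw [tv_conj, vconj_mulVec_av_last hm s, pv_zero_vecMul_vconj_inv hm s]
  rfl

/-- splitting a transvection with axis `ψ_1 - ε s ψ_0` -/
theorem tv_axv_split (s : F) (k : ℕ) (hk1 : 1 ≤ k) (hk2 : k + 1 ≤ m) (c : F) :
    tv (av m k) (axv (m := m) s) c = Tm m k 1 c * Tm m k 0 (-((-1) ^ m * s) * c) := by
  have h1 : pv (F := F) m 1 ⬝ᵥ av m k = 0 := dot_eq_zero m (by omega) (by omega)
  have h0 : pv (F := F) m 0 ⬝ᵥ av m k = 0 := dot_eq_zero m (by omega) (by omega)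
  have h2 : ((-((-1) ^ m * s)) • pv (F := F) m 0) ⬝ᵥ av m k = 0 := by
    rw [smul_dotProduct, h0, smul_zero]
  have h3 := tv_smul (1 : F) (-((-1) ^ m * s)) (av m k) (pv m 0) c
  rw [one_smul, one_mul] at h3
  unfold Tm axv
  rw [← h3, tv_add_axis h1 h2]

theorem chain (hm : 2 ≤ m) (s : F) (hu : uSL m ∈ H) (hv : vconj m s ∈ H) {j : ℕ} (hj : j + 2 ≤ m)
    {c : F} (hc : c ∈ Ld m H j) : s * c ∈ Ld m H (j + 1) := by
  have hX : vconj m s * Tm m j 0 c * (vconj m s)⁻¹ ∈ H :=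
    H.mul_mem (H.mul_mem hv hc) (H.inv_mem hv)
  rw [vconj_conj_Tm_lt hm s j hj c, tv_axv_split s (j + 1) (by omega) (by omega)] at hX
  have h1 : Tm m (j + 1) 1 c ∈ H := (Tm_shift_one hu j 0 c).mpr hc
  have h2 : Tm m (j + 1) 0 (-((-1) ^ m * s) * c) ∈ H := by
    have := H.mul_mem (H.inv_mem h1) hX
    rwa [inv_mul_cancel_left] at this
  have h3 : -((-1) ^ m * s) * c ∈ Ld m H (j + 1) := h2
  have e : -((-1) ^ m * s) * c = -((-1) ^ m * (s * c)) := by ring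
  rw [e, neg_mem_iff, eps_mul_mem] at h3
  exact h3

theorem mult (hm : 2 ≤ m) (s : F) (hu : uSL m ∈ H) (hv : vconj m s ∈ H) {k : ℕ} (hk1 : 1 ≤ k)
    (hk2 : k + 1 ≤ m) {c d : F} (hc : c ∈ Ld m H (m - 1)) (hd : d ∈ Ld m H k) :
    s * c * d ∈ Ld m H k := by
  have hX : vconj m s * Tm m (m - 1) 0 c * (vconj m s)⁻¹ ∈ H :=
    H.mul_mem (H.mul_mem hv hc) (H.inv_mem hv)
  rw [vconj_conj_Tm_last hm s c] at hX
  -- incidences
  have p0k : pv (F := F) m 0 ⬝ᵥ av m k = 0 := dot_eq_zero m (by omega) (by omega)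
  have p1k : pv (F := F) m 1 ⬝ᵥ av m k = 0 := dot_eq_zero m (by omega) (by omega)
  have p00 : pv (F := F) m 0 ⬝ᵥ av m 0 = 0 := dot00' (by omega)
  have p0m : pv (F := F) m 0 ⬝ᵥ av m m = 1 := by
    have := dot_eq_one (F := F) m 0
    rwa [zero_add] at this
  have p1m : pv (F := F) m 1 ⬝ᵥ av m m = 0 := dot_eq_zero m (by omega) (by omega)
  have p10 : pv (F := F) m 1 ⬝ᵥ av m 0 = (-1) ^ m := dot_succ m 0
  have hx : axv (m := m) s ⬝ᵥ (av m m + s • av m 0) = 0 := by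
    rw [axv_dot, dotProduct_add, dotProduct_add, dotProduct_smul, dotProduct_smul, p1m, p10, p0m,
      p00]
    simp only [smul_eq_mul]
    ring
  have h2 : axv (m := m) s ⬝ᵥ av m k = 0 := by
    rw [axv_dot, p1k, p0k, mul_zero, add_zero]
  have hpx : pv (F := F) m 0 ⬝ᵥ (av m m + s • av m 0) = 1 := by
    rw [dotProduct_add, dotProduct_smul, p0m, p00, smul_zero, add_zero]
  have hC1 := tv_commutator hx p0k h2 c d
  rw [hpx, mul_one] at hC1
  have hC1mem : tv (av m k) (axv (m := m) s) (-(c * d)) ∈ H := by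
    rw [← hC1]
    exact H.mul_mem (H.mul_mem (H.mul_mem hX hd) (H.inv_mem hX)) (H.inv_mem hd)
  rw [tv_axv_split s k hk1 hk2] at hC1mem
  -- second commutator
  have hA : Tm m m 1 c ∈ H := by
    have := (Tm_shift_one hu (m - 1) 0 c).mpr hc
    have e : m - 1 + 1 = m := by omega
    rwa [e] at this
  have hC2 := tv_commutator p1m p0k p1k c d
  rw [p0m, mul_one] at hC2
  have hC2mem : Tm m k 1 (-(c * d)) ∈ H := by
    unfold Tm
    rw [← hC2]
    exact H.mul_mem (H.mul_mem (H.mul_mem hA hd) (H.inv_mem hA)) (H.inv_mem hd)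
  have h3 : Tm m k 0 (-((-1) ^ m * s) * -(c * d)) ∈ H := by
    have := H.mul_mem (H.inv_mem hC2mem) hC1mem
    rwa [inv_mul_cancel_left] at this
  have h4 : -((-1) ^ m * s) * -(c * d) ∈ Ld m H k := h3
  have e : -((-1) ^ m * s) * -(c * d) = (-1) ^ m * (s * c * d) := by ring
  rw [e, eps_mul_mem] at h4
  exact h4

theorem down (hu : uSL m ∈ H) {x y : ℕ} (hx : x + 1 ≤ m) (hy : y + 1 ≤ m) (hxy : m ≤ x + y)
    {c d : F} (hc : c ∈ Ld m H x) (hd : d ∈ Ld m H y) : c * d ∈ Ld m H (x + y - m) := by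
  have hA : Tm m m (m - x) c ∈ H := by
    have := (Tm_shift hu x 0 (m - x) c).mpr hc
    have e : x + (m - x) = m := by omega
    rwa [e, zero_add] at this
  have q1 : pv (F := F) m (m - x) ⬝ᵥ av m m = 0 := dot_eq_zero m (by omega) (by omega)
  have q2 : pv (F := F) m 0 ⬝ᵥ av m y = 0 := dot_eq_zero m (by omega) (by omega)
  have q3 : pv (F := F) m (m - x) ⬝ᵥ av m y = 0 := dot_eq_zero m (by omega) (by omega)
  have p0m : pv (F := F) m 0 ⬝ᵥ av m m = 1 := by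
    have := dot_eq_one (F := F) m 0
    rwa [zero_add] at this
  have hC := tv_commutator q1 q2 q3 c d
  rw [p0m, mul_one] at hC
  have hCmem : Tm m y (m - x) (-(c * d)) ∈ H := by
    unfold Tm
    rw [← hC]
    exact H.mul_mem (H.mul_mem (H.mul_mem hA hd) (H.inv_mem hA)) (H.inv_mem hd)
  have e1 : y = (x + y - m) + (m - x) := by omega
  have e2 : Tm m y (m - x) (-(c * d)) = Tm m ((x + y - m) + (m - x)) (0 + (m - x)) (-(c * d)) := by
    rw [zero_add, ← e1]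
  rw [e2, Tm_shift hu] at hCmem
  have h4 : -(c * d) ∈ Ld m H (x + y - m) := hCmem
  exact neg_mem_iff.mp h4

theorem up (hu : uSL m ∈ H) {x y c' : ℕ} (hc' : 1 ≤ c') (h : x + y + c' + 1 ≤ m)
    {c d : F} (hc : c ∈ Ld m H x) (hd : d ∈ Ld m H y) :
    (Nat.choose (c' + m - 1) m : F) * (c * d) ∈ Ld m H (x + y + c') := by
  have hB : Tm m (y + (x + c')) (x + c') d ∈ H := by
    have := (Tm_shift hu y 0 (x + c') d).mpr hd
    rwa [zero_add] at this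
  have q1 : pv (F := F) m 0 ⬝ᵥ av m x = 0 := dot_eq_zero m (by omega) (by omega)
  have q2 : pv (F := F) m (x + c') ⬝ᵥ av m (y + (x + c')) = 0 :=
    dot_eq_zero m (by omega) (by omega)
  have q3 : pv (F := F) m 0 ⬝ᵥ av m (y + (x + c')) = 0 := dot_eq_zero m (by omega) (by omega)
  have q4 : pv (F := F) m (x + c') ⬝ᵥ av m x = (-1) ^ m * (Nat.choose (c' + m - 1) m : F) := by
    rw [dot_gt m (by omega)]
    have e : x + c' - x + m - 1 = c' + m - 1 := by omega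
    rw [e]
  have hC := tv_commutator q1 q2 q3 c d
  rw [q4] at hC
  have hCmem : Tm m (y + (x + c')) 0 (-(c * d * ((-1) ^ m * (Nat.choose (c' + m - 1) m : F)))) ∈ H := by
    unfold Tm
    rw [← hC]
    exact H.mul_mem (H.mul_mem (H.mul_mem hc hB) (H.inv_mem hc)) (H.inv_mem hB)
  have e1 : y + (x + c') = x + y + c' := by omega
  rw [e1] at hCmem
  have h4 : -(c * d * ((-1) ^ m * (Nat.choose (c' + m - 1) m : F))) ∈ Ld m H (x + y + c') := hCmem
  have e : -(c * d * ((-1) ^ m * (Nat.choose (c' + m - 1) m : F))) =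
      -((-1) ^ m * ((Nat.choose (c' + m - 1) m : F) * (c * d))) := by ring
  rw [e, neg_mem_iff, eps_mul_mem] at h4
  exact h4

end Cfsg.Agent.Lib.Helper5.RU
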