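import Mathlib

set_option autoImplicit false

/-!
# The field argument: the additive groups `L_d` are all of `F`
-/

namespace Cfsg.Agent.Lib.Helper5.RU

variable {F : Type*} [Field F]

/-- the relations between the additive groups `L_d`, `0 ≤ d ≤ m - 1` -/
structure LData (m : ℕ) (s : F) (L : ℕ → AddSubgroup F) : Prop where
  cube : s ^ 3 ∈ L 2
  chain : ∀ j, j + 2 ≤ m → ∀ c ∈ L j, s * c ∈ L (j + 1)
  mult : ∀ k, 1 ≤ k → k + 1 ≤ m → ∀ c ∈ L (m - 1), ∀ d ∈ L k, s * c * d ∈ L k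
  down : ∀ x y, x + 1 ≤ m → y + 1 ≤ m → m ≤ x + y → ∀ c ∈ L x, ∀ d ∈ L y, c * d ∈ L (x + y - m)
  up : ∀ x y c', 1 ≤ c' → x + y + c' + 1 ≤ m → ∀ c ∈ L x, ∀ d ∈ L y,
    (Nat.choose (c' + m - 1) m : F) * (c * d) ∈ L (x + y + c')

/-- Lucas-type congruence -/
theorem lucas_aux (p : ℕ) [hp : Fact p.Prime] (α a : ℕ) :
    Nat.choose (p ^ α * a + (p ^ α - 1)) (p ^ α) ≡ a [MOD p] := by
  induction α with
  | zero => simp [Nat.ModEq]
  | succ α ih =>
    have hp0 : 0 < p := hp.out.pos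
    have hP : 1 ≤ p ^ α := Nat.one_le_pow _ _ hp0
    have hN : p ^ (α + 1) * a + (p ^ (α + 1) - 1) = (p - 1) + p * (p ^ α * a + (p ^ α - 1)) := by
      have e1 : p ^ (α + 1) = p * p ^ α := by rw [pow_succ, mul_comm]
      have e2 : p * (p ^ α - 1) = p * p ^ α - p := by rw [Nat.mul_sub, mul_one]
      have e3 : p ≤ p * p ^ α := Nat.le_mul_of_pos_right p (by omega)
      rw [e1, mul_add, e2, mul_assoc]
      omega
    have hK : p ^ (α + 1) = 0 + p * p ^ α := by rw [pow_succ, mul_comm, zero_add]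
    have h1 := Choose.choose_modEq_choose_mod_mul_choose_div_nat (p := p)
      (n := p ^ (α + 1) * a + (p ^ (α + 1) - 1)) (k := p ^ (α + 1))
    have m1 : (p ^ (α + 1) * a + (p ^ (α + 1) - 1)) % p = p - 1 := by
      rw [hN, Nat.add_mul_mod_self_left, Nat.mod_eq_of_lt (by omega)]
    have d1 : (p ^ (α + 1) * a + (p ^ (α + 1) - 1)) / p = p ^ α * a + (p ^ α - 1) := by
      rw [hN, Nat.add_mul_div_left _ _ hp0, Nat.div_eq_of_lt (by omega), zero_add]
    have m2 : p ^ (α + 1) % p = 0 := by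
      rw [hK, Nat.add_mul_mod_self_left, Nat.zero_mod]
    have d2 : p ^ (α + 1) / p = p ^ α := by
      rw [hK, Nat.add_mul_div_left _ _ hp0, Nat.zero_div, zero_add]
    rw [m1, d1, m2, d2, Nat.choose_zero_right, one_mul] at h1
    exact h1.trans ih

variable [Fintype F]

namespace LData

variable {m : ℕ} {s : F} {L : ℕ → AddSubgroup F} (h : LData m s L)
include h

/-- `R = s L_{m-1}` -/
def R (_h : LData m s L) : Set F := {r | s⁻¹ * r ∈ L (m - 1)}

theorem R_zero : (0 : F) ∈ h.R := by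
  show s⁻¹ * 0 ∈ L (m - 1)
  rw [mul_zero]; exact (L (m - 1)).zero_mem

theorem R_add {a b : F} (ha : a ∈ h.R) (hb : b ∈ h.R) : a + b ∈ h.R := by
  show s⁻¹ * (a + b) ∈ L (m - 1)
  rw [mul_add]; exact (L (m - 1)).add_mem ha hb

theorem R_neg {a : F} (ha : a ∈ h.R) : -a ∈ h.R := by
  show s⁻¹ * (-a) ∈ L (m - 1)
  rw [mul_neg]; exact (L (m - 1)).neg_mem ha

theorem R_smul (hs : s ≠ 0) {k : ℕ} (hk1 : 1 ≤ k) (hk2 : k + 1 ≤ m) {r d : F} (hr : r ∈ h.R)
    (hd : d ∈ L k) : r * d ∈ L k := by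
  have := h.mult k hk1 hk2 _ hr d hd
  have e : s * (s⁻¹ * r) * d = r * d := by
    rw [← mul_assoc, mul_inv_cancel₀ hs, one_mul]
  rwa [e] at this

theorem R_mul (hm : 2 ≤ m) (hs : s ≠ 0) {a b : F} (ha : a ∈ h.R) (hb : b ∈ h.R) : a * b ∈ h.R := by
  show s⁻¹ * (a * b) ∈ L (m - 1)
  have := h.R_smul hs (k := m - 1) (by omega) (by omega) ha hb
  have e : a * (s⁻¹ * b) = s⁻¹ * (a * b) := by ring
  rwa [e] at this

theorem R_pow (hm : 2 ≤ m) (hs : s ≠ 0) {a : F} (ha : a ∈ h.R) (k : ℕ) : a ^ (k + 1) ∈ h.R := by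
  induction k with
  | zero => rwa [zero_add, pow_one]
  | succ k ih =>
    rw [pow_succ]
    exact h.R_mul hm hs ih ha

theorem pow_mem_ge (d : ℕ) (hd2 : 2 ≤ d) (hd : d + 1 ≤ m) : s ^ (d + 1) ∈ L d := by
  induction d with
  | zero => omega
  | succ d ih =>
    rcases Nat.lt_or_ge d 2 with h2 | h2
    · have e : d = 1 := by omega
      subst e
      exact h.cube
    · have := h.chain d (by omega) _ (ih h2 (by omega))
      rwa [← pow_succ'] at this

theorem pow_succ_mem_R (hm : 3 ≤ m) (hs : s ≠ 0) : s ^ (m + 1) ∈ h.R := by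
  show s⁻¹ * s ^ (m + 1) ∈ L (m - 1)
  have := h.pow_mem_ge (m - 1) (by omega) (by omega)
  have e : m - 1 + 1 = m := by omega
  rw [e] at this
  have e2 : s⁻¹ * s ^ (m + 1) = s ^ m := by
    rw [pow_succ', ← mul_assoc, inv_mul_cancel₀ hs, one_mul]
  rwa [e2]

theorem card_sub_one_pos : 1 ≤ Fintype.card F - 1 := by
  have := Fintype.one_lt_card (α := F)
  omega

omit h in
theorem card_sub_one_pos' : 1 ≤ Fintype.card F - 1 := by
  have := Fintype.one_lt_card (α := F)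
  omega

theorem R_one (hm : 3 ≤ m) (hs : s ≠ 0) : (1 : F) ∈ h.R := by
  have h1 := h.pow_succ_mem_R hm hs
  have h2 := h.R_pow (by omega) hs h1 (Fintype.card F - 1 - 1)
  have e : Fintype.card F - 1 - 1 + 1 = Fintype.card F - 1 := by
    have := card_sub_one_pos' (F := F); omega
  rw [e, FiniteField.pow_card_sub_one_eq_one _ (pow_ne_zero _ hs)] at h2
  exact h2

theorem R_inv (hm : 3 ≤ m) (hs : s ≠ 0) {a : F} (ha : a ∈ h.R) (ha0 : a ≠ 0) : a⁻¹ ∈ h.R := by
  have h2 := h.R_pow (by omega) hs ha (2 * (Fintype.card F - 1) - 1 - 1)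
  have hq := card_sub_one_pos' (F := F)
  have e : 2 * (Fintype.card F - 1) - 1 - 1 + 1 = 2 * (Fintype.card F - 1) - 1 := by omega
  rw [e] at h2
  have e2 : a⁻¹ = a ^ (2 * (Fintype.card F - 1) - 1) := by
    apply inv_eq_of_mul_eq_one_right
    rw [← pow_succ']
    have e3 : 2 * (Fintype.card F - 1) - 1 + 1 = (Fintype.card F - 1) * 2 := by omega
    rw [e3, pow_mul, FiniteField.pow_card_sub_one_eq_one _ ha0, one_pow]
  rw [e2]
  exact h2

theorem R_natCast (hm : 3 ≤ m) (hs : s ≠ 0) (k : ℕ) : (k : F) ∈ h.R := by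
  induction k with
  | zero => rw [Nat.cast_zero]; exact h.R_zero
  | succ k ih => rw [Nat.cast_succ]; exact h.R_add ih (h.R_one hm hs)

theorem sq_mem (hm : 3 ≤ m) (hs : s ≠ 0) : s ^ 2 ∈ L 1 := by
  have h1 : s ^ m ∈ L (m - 1) := by
    have := h.pow_mem_ge (m - 1) (by omega) (by omega)
    have e : m - 1 + 1 = m := by omega
    rwa [e] at this
  have h2 := h.down 2 (m - 1) (by omega) (by omega) (by omega) _ h.cube _ h1
  have e : 2 + (m - 1) - m = 1 := by omega
  rw [e] at h2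
  have h3 := h.R_inv hm hs (h.pow_succ_mem_R hm hs) (pow_ne_zero _ hs)
  have h4 := h.R_smul hs (k := 1) (by omega) (by omega) h3 h2
  have e2 : (s ^ (m + 1))⁻¹ * (s ^ 3 * s ^ m) = s ^ 2 := by
    have : s ^ 3 * s ^ m = s ^ (m + 1) * s ^ 2 := by ring
    rw [this, ← mul_assoc, inv_mul_cancel₀ (pow_ne_zero _ hs), one_mul]
  rwa [e2] at h4

theorem s_mem (hm : 3 ≤ m) (hs : s ≠ 0) : s ∈ L 0 := by
  have h1 : s⁻¹ ∈ L (m - 1) := by
    have := h.R_one hm hs
    have e : s⁻¹ = s⁻¹ * 1 := by rw [mul_one]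
    rw [e]; exact this
  have h2 := h.down 1 (m - 1) (by omega) (by omega) (by omega) _ (h.sq_mem hm hs) _ h1
  have e : 1 + (m - 1) - m = 0 := by omega
  rw [e] at h2
  have e2 : s ^ 2 * s⁻¹ = s := by
    rw [pow_two, mul_assoc, mul_inv_cancel₀ hs, mul_one]
  rwa [e2] at h2

theorem pow_mem (hm : 3 ≤ m) (hs : s ≠ 0) (d : ℕ) (hd : d + 1 ≤ m) : s ^ (d + 1) ∈ L d := by
  rcases Nat.lt_or_ge d 2 with h2 | h2
  · rcases Nat.eq_zero_or_pos d with h0 | h0
    · subst h0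
      rw [zero_add, pow_one]; exact h.s_mem hm hs
    · have e : d = 1 := by omega
      subst e
      exact h.sq_mem hm hs
  · exact h.pow_mem_ge d h2 hd

/-- the key step: `s ^ (p ^ α) ∈ R` where `p ^ α` is the `p`-part of `m + 1` -/
theorem pow_ppart_mem_R (hm : 3 ≤ m) (hs : s ≠ 0) (p : ℕ) [hp : Fact p.Prime] [CharP F p]
    (α n' : ℕ) (hn : m + 1 = p ^ α * n') (hpn : ¬ p ∣ n') : s ^ (p ^ α) ∈ h.R := by
  have hp0 : 0 < p := hp.out.pos
  have hP : 1 ≤ p ^ α := Nat.one_le_pow _ _ hp0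
  have hn'0 : n' ≠ 0 := by
    rintro rfl
    rw [mul_zero] at hn; omega
  rcases Nat.lt_or_ge n' 2 with h1 | h2
  · have e : n' = 1 := by omega
    rw [e, mul_one] at hn
    rw [← hn]
    exact h.pow_succ_mem_R hm hs
  · -- `p ^ α + 3 ≤ m + 1`
    have hbound : p ^ α + 3 ≤ m + 1 := by
      by_contra hcon
      push_neg at hcon
      have hle : p ^ α * 2 ≤ p ^ α * n' := Nat.mul_le_mul_left _ h2
      have hP2 : p ^ α ≤ 2 := by omega
      rcases Nat.lt_or_ge (p ^ α) 2 with h3 | h3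
      · have e : p ^ α = 1 := by omega
        rw [e, one_mul] at hn
        omega
      · have e : p ^ α = 2 := by omega
        rw [e] at hn hcon
        have e' : n' = 2 := by omega
        have hα : α ≠ 0 := by
          rintro rfl
          rw [pow_zero] at e; omega
        have : p ∣ p ^ α := dvd_pow_self p hα
        rw [e] at this
        rw [e'] at hpn
        exact hpn this
    -- apply `up`
    have hx := h.pow_mem hm hs (m - 2 - p ^ α) (by omega)
    have hy := h.pow_mem hm hs 0 (by omega)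
    have hup := h.up (m - 2 - p ^ α) 0 (1 + p ^ α) (by omega) (by omega) _ hx _ hy
    have e1 : m - 2 - p ^ α + 0 + (1 + p ^ α) = m - 1 := by omega
    have e2 : 1 + p ^ α + m - 1 = p ^ α + m := by omega
    rw [e1, e2] at hup
    -- the binomial coefficient
    have hch : (Nat.choose (p ^ α + m) m : F) = (n' : F) := by
      rw [CharP.natCast_eq_natCast F p]
      have hl := lucas_aux p α n'
      have e3 : p ^ α * n' + (p ^ α - 1) = p ^ α + m := by omega
      rw [e3] at hl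
      have e4 : Nat.choose (p ^ α + m) m = Nat.choose (p ^ α + m) (p ^ α) := by
        rw [add_comm]
        exact Nat.choose_symm_add
      rw [e4]
      exact hl
    rw [hch] at hup
    have hn'F : (n' : F) ≠ 0 := by
      intro h0
      exact hpn ((CharP.cast_eq_zero_iff F p n').mp h0)
    -- `r₁ = n' s ^ (m + 1 - p ^ α) ∈ R`
    have hr1 : (n' : F) * s ^ (m + 1 - p ^ α) ∈ h.R := by
      show s⁻¹ * ((n' : F) * s ^ (m + 1 - p ^ α)) ∈ L (m - 1)
      have e5 : s⁻¹ * ((n' : F) * s ^ (m + 1 - p ^ α)) =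
          (n' : F) * (s ^ (m - 2 - p ^ α + 1) * s ^ (0 + 1)) := by
        have e6 : m + 1 - p ^ α = (m - 2 - p ^ α + 1) + (0 + 1) + 1 := by omega
        rw [e6, pow_succ (s) ((m - 2 - p ^ α + 1) + (0 + 1)), pow_add]
        field_simp
      rw [e5]
      exact hup
    have hr2 : s ^ (m + 1 - p ^ α) ∈ h.R := by
      have := h.R_mul (by omega) hs (h.R_inv hm hs (h.R_natCast hm hs n') hn'F) hr1
      rwa [← mul_assoc, inv_mul_cancel₀ hn'F, one_mul] at this
    have hr3 := h.R_inv hm hs hr2 (pow_ne_zero _ hs)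
    have hr4 := h.R_mul (by omega) hs (h.pow_succ_mem_R hm hs) hr3
    have e7 : s ^ (m + 1) * (s ^ (m + 1 - p ^ α))⁻¹ = s ^ (p ^ α) := by
      have e8 : m + 1 = p ^ α + (m + 1 - p ^ α) := by omega
      rw [e8, pow_add]
      have e9 : p ^ α + (m + 1 - p ^ α) - p ^ α = m + 1 - p ^ α := by omega
      rw [e9, mul_assoc, mul_inv_cancel₀ (pow_ne_zero _ hs), mul_one]
    rwa [e7] at hr4

theorem R_univ (hm : 3 ≤ m) (hs : s ≠ 0) (hgen : ∀ y : F, y ≠ 0 → ∃ k : ℕ, y = s ^ k) (y : F) :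
    y ∈ h.R := by
  obtain ⟨p, hpc⟩ := CharP.exists F
  haveI := hpc
  haveI : Fact p.Prime := ⟨CharP.char_is_prime F p⟩
  have hp1 : p ≠ 1 := (Fact.out : p.Prime).ne_one
  obtain ⟨α, n', hpn, hn⟩ := Nat.exists_eq_pow_mul_and_not_dvd (n := m + 1) (by omega) p hp1
  have key := h.pow_ppart_mem_R hm hs p α n' hn hpn
  obtain ⟨z, hz⟩ := (bijective_iterateFrobenius F p α).2 y
  rw [iterateFrobenius_def] at hz
  by_cases hz0 : z = 0
  · rw [hz0, zero_pow (pow_pos (Fact.out : p.Prime).pos α).ne'] at hz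
    rw [← hz]; exact h.R_zero
  · obtain ⟨k, hk⟩ := hgen z hz0
    rw [hk, ← pow_mul, mul_comm, pow_mul] at hz
    rw [← hz]
    rcases Nat.eq_zero_or_pos k with h0 | h0
    · rw [h0, pow_zero]; exact h.R_one hm hs
    · have := h.R_pow (by omega) hs key (k - 1)
      have e : k - 1 + 1 = k := by omega
      rwa [e] at this

theorem top_last (hm : 3 ≤ m) (hs : s ≠ 0) (hgen : ∀ y : F, y ≠ 0 → ∃ k : ℕ, y = s ^ k) (y : F) :
    y ∈ L (m - 1) := by
  have := h.R_univ hm hs hgen (s * y)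
  have e : s⁻¹ * (s * y) = y := by rw [← mul_assoc, inv_mul_cancel₀ hs, one_mul]
  have h2 : s⁻¹ * (s * y) ∈ L (m - 1) := this
  rwa [e] at h2

theorem top_all (hm : 3 ≤ m) (hs : s ≠ 0) (hgen : ∀ y : F, y ≠ 0 → ∃ k : ℕ, y = s ^ k) (k : ℕ)
    (hk : k + 1 ≤ m) (y : F) : y ∈ L (m - 1 - k) := by
  induction k generalizing y with
  | zero => exact h.top_last hm hs hgen y
  | succ k ih =>
    have h1 := ih (by omega) 1
    have h2 := h.top_last hm hs hgen y
    have h3 := h.down (m - 1 - k) (m - 1) (by omega) (by omega) (by omega) _ h1 _ h2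
    have e : m - 1 - k + (m - 1) - m = m - 1 - (k + 1) := by omega
    rw [e, one_mul] at h3
    exact h3

theorem top (hm : 3 ≤ m) (hs : s ≠ 0) (hgen : ∀ y : F, y ≠ 0 → ∃ k : ℕ, y = s ^ k) (d : ℕ)
    (hd : d + 1 ≤ m) (y : F) : y ∈ L d := by
  have := h.top_all hm hs hgen (m - 1 - d) (by omega) y
  have e : m - 1 - (m - 1 - d) = d := by omega
  rwa [e] at this

end LData

end Cfsg.Agent.Lib.Helper5.RU
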