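import Mathlib
import Cfsg.Agent.Lib.Helper5.RU.C1
import Cfsg.Agent.Lib.Helper5.RU.D1

set_option autoImplicit false

/-!
# Two conjugate regular unipotent elements generating `SL_{m+1}(F)`, `m ≥ 3`
-/

namespace Cfsg.Agent.Lib.Helper5.RU

open Matrix Cfsg.Agent.H9SLRoot Cfsg.Agent.Lib.Helper2.RegUni

section codirs

variable {k : Type*} [Field k] {ι : Type*} [Fintype ι] [DecidableEq ι]

/-- axes all of whose transvections lie in `H` -/
def codirs (H : Subgroup (SpecialLinearGroup ι k)) : Set (ι → k) :=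
  {φ | ∀ (x : ι → k) (c : k), tv x φ c ∈ H}

theorem codirs_smul {H : Subgroup (SpecialLinearGroup ι k)} {φ : ι → k} (hφ : φ ∈ codirs H)
    (a : k) : a • φ ∈ codirs H := by
  intro x c
  have h := tv_smul 1 a x φ c
  rw [one_smul] at h
  rw [h]
  exact hφ x _

theorem codirs_vecMul {H : Subgroup (SpecialLinearGroup ι k)} {φ : ι → k} (hφ : φ ∈ codirs H)
    {g : SpecialLinearGroup ι k} (hg : g ∈ H) : φ ᵥ* (g : Matrix ι ι k) ∈ codirs H := by
  intro x c
  have h := tv_conj g⁻¹ ((g : Matrix ι ι k) *ᵥ x) φ c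
  rw [inv_mulVec_mulVec, inv_inv] at h
  rw [← h]
  exact H.mul_mem (H.mul_mem (H.inv_mem hg) (hφ _ _)) hg

theorem codirs_add {H : Subgroup (SpecialLinearGroup ι k)} {φ ψ : ι → k} (hφ : φ ∈ codirs H)
    (hψ : ψ ∈ codirs H) : φ + ψ ∈ codirs H := by
  by_cases hspan : φ ∈ Submodule.span k {ψ}
  · obtain ⟨a, rfl⟩ := Submodule.mem_span_singleton.mp hspan
    have : a • ψ + ψ = (a + 1) • ψ := by rw [add_smul, one_smul]
    rw [this]
    exact codirs_smul hψ _
  · obtain ⟨r, hrφ, hrψ⟩ := exists_dot_sep hspan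
    have hψr : ψ ⬝ᵥ r = 0 := by rw [dotProduct_comm]; exact hrψ
    have hφr : φ ⬝ᵥ r = 1 := by rw [dotProduct_comm]; exact hrφ
    have hg : tv r ψ 1 ∈ H := hψ r 1
    have := codirs_vecMul hφ hg
    rw [tv_vecMul hψr, hφr, mul_one, one_smul] at this
    exact this

theorem codirs_neg {H : Subgroup (SpecialLinearGroup ι k)} {φ : ι → k} (hφ : φ ∈ codirs H) :
    -φ ∈ codirs H := by
  have := codirs_smul hφ (-1)
  rwa [neg_one_smul] at this

theorem codirs_sub {H : Subgroup (SpecialLinearGroup ι k)} {φ ψ : ι → k} (hφ : φ ∈ codirs H)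
    (hψ : ψ ∈ codirs H) : φ - ψ ∈ codirs H := by
  rw [sub_eq_add_neg]
  exact codirs_add hφ (codirs_neg hψ)

theorem tv_zero_center (φ : ι → k) (c : k) : tv (0 : ι → k) φ c = 1 := by
  apply sl_ext
  intro v
  rw [tv_mulVec (dotProduct_zero _), coe_one_mulVec, smul_zero, add_zero]

/-- if all basis covectors are in `codirs H` then `H = ⊤` -/
theorem eq_top_of_codirs [Nontrivial ι] {H : Subgroup (SpecialLinearGroup ι k)}
    (h : ∀ i : ι, (e i : ι → k) ∈ codirs H) : H = ⊤ := by
  apply Cfsg.Agent.Lib.Helper1.eq_top_of_transvection_mem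
  intro i j hij c
  have h1 := h j (e i) c
  have h2 : tv (e i : ι → k) (e j) c = SpecialLinearGroup.transvection hij c := by
    apply Subtype.ext
    rw [tv_e_coe hij, SpecialLinearGroup.transvection_coe]
    rfl
  rw [← h2]
  exact h1

end codirs

variable {F : Type*} [Field F] {m : ℕ} {H : Subgroup (SpecialLinearGroup (Fin (m + 1)) F)}

/-- the triangular induction: all transvections with axis `e 0` lie in `H` -/
theorem tv_e0_mem_aux (hL : ∀ d, d + 1 ≤ m → ∀ y : F, Tm m d 0 y ∈ H) (k : ℕ) (hk : k ≤ m)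
    (x : Fin (m + 1) → F) (hx : ∀ i : Fin (m + 1), i.val + k < m + 1 → x i = 0) (c : F) :
    tv x (e (0 : Fin (m + 1))) c ∈ H := by
  induction k generalizing x with
  | zero =>
    have : x = 0 := by
      funext i
      exact hx i (by have := i.isLt; omega)
    rw [this, tv_zero_center]
    exact H.one_mem
  | succ k ih =>
    set i0 : Fin (m + 1) := ⟨m - k, by omega⟩ with hi0
    set b : F := x i0 with hb
    have hx' : ∀ i : Fin (m + 1), i.val + k < m + 1 →
        (x - b • av (F := F) m k : Fin (m + 1) → F) i = 0 := by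
      intro i hi
      rw [Pi.sub_apply, Pi.smul_apply, av_apply, smul_eq_mul]
      rcases Nat.lt_or_ge (i.val + (k + 1)) (m + 1) with h1 | h1
      · rw [hx i h1, Nat.choose_eq_zero_of_lt (by omega)]
        simp
      · have e1 : i = i0 := by
          apply Fin.ext
          simp only [hi0]
          omega
        have e2 : m - i.val = k := by
          rw [e1]; simp only [hi0]; omega
        rw [e2, Nat.choose_self, e1]
        simp [hb]
    have h1 := ih (by omega) _ hx'
    have h2 : tv (b • av m k) (e (0 : Fin (m + 1))) c ∈ H := by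
      have h3 := tv_smul b 1 (av m k) (e (0 : Fin (m + 1))) c
      rw [one_smul] at h3
      rw [h3, ← pv_zero]
      exact hL k (by omega) _
    have q1 : e (0 : Fin (m + 1)) ⬝ᵥ (b • av (F := F) m k) = 0 := by
      rw [dotProduct_smul, ← pv_zero, dot_eq_zero m (by omega) (by omega), smul_zero]
    have q2 : e (0 : Fin (m + 1)) ⬝ᵥ (x - b • av (F := F) m k) = 0 := by
      unfold e
      rw [single_one_dotProduct]
      exact hx' 0 (by simp; omega)
    have h4 := tv_add_center q2 q1 c
    rw [sub_add_cancel] at h4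
    rw [← h4]
    exact H.mul_mem h1 h2

theorem e0_mem_codirs (hL : ∀ d, d + 1 ≤ m → ∀ y : F, Tm m d 0 y ∈ H) :
    (e (0 : Fin (m + 1)) : Fin (m + 1) → F) ∈ codirs H := by
  intro x c
  by_cases hinc : e (0 : Fin (m + 1)) ⬝ᵥ x = 0
  · apply tv_e0_mem_aux hL m le_rfl x _ c
    intro i hi
    have : i = 0 := by
      apply Fin.ext
      simp only [Fin.val_zero]
      omega
    rw [this]
    unfold e at hinc
    rwa [single_one_dotProduct] at hinc
  · rw [tv_of_not hinc]
    exact H.one_mem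

theorem e_mem_codirs (hu : uSL m ∈ H) (hL : ∀ d, d + 1 ≤ m → ∀ y : F, Tm m d 0 y ∈ H)
    (j : ℕ) (hj : j < m + 1) : (e (⟨j, hj⟩ : Fin (m + 1)) : Fin (m + 1) → F) ∈ codirs H := by
  induction j with
  | zero => exact e0_mem_codirs hL
  | succ j ih =>
    have h1 := ih (by omega)
    have h2 := codirs_vecMul h1 hu
    rw [uSL_coe, e_vecMul_Umat_lt m ⟨j, by omega⟩ (by simp; omega)] at h2
    have h3 := codirs_sub h2 h1
    rw [add_sub_cancel_left] at h3
    exact h3

theorem eq_top_of_Ld (hm : 1 ≤ m) (hu : uSL m ∈ H)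
    (hL : ∀ d, d + 1 ≤ m → ∀ y : F, Tm m d 0 y ∈ H) : H = ⊤ := by
  haveI : Nontrivial (Fin (m + 1)) := ⟨⟨0, ⟨1, by omega⟩, by
    intro h
    have := congrArg Fin.val h
    simp at this⟩⟩
  apply eq_top_of_codirs
  intro i
  exact e_mem_codirs hu hL i.val i.isLt

/-- **Theorem A**: `u` and `t u t⁻¹` generate `SL_{m+1}(F)`, for `m ≥ 3`, `t = 1 + s E_{m,0}` with
`s` a generator of `Fˣ`. -/
theorem closure_uSL_vconj [Fintype F] (hm : 3 ≤ m) (s : F) (hs : s ≠ 0)
    (hgen : ∀ y : F, y ≠ 0 → ∃ k : ℕ, y = s ^ k) :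
    Subgroup.closure {uSL (F := F) m, vconj m s} = ⊤ := by
  set H := Subgroup.closure {uSL (F := F) m, vconj m s} with hH
  have hu : uSL m ∈ H := Subgroup.subset_closure (by simp)
  have hv : vconj m s ∈ H := Subgroup.subset_closure (by simp)
  have hdata : LData m s (Ld m H) :=
    { cube := W_mem hm s hu hv
      chain := fun j hj c hc => chain (by omega) s hu hv hj hc
      mult := fun k hk1 hk2 c hc d hd => mult (by omega) s hu hv hk1 hk2 hc hd
      down := fun x y hx hy hxy c hc d hd => down hu hx hy hxy hc hd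
      up := fun x y c' hc' hxy c hc d hd => up hu hc' hxy hc hd }
  apply eq_top_of_Ld (by omega) hu
  intro d hd y
  exact hdata.top hm hs hgen d hd y

end Cfsg.Agent.Lib.Helper5.RU
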